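import Cfsg.Agent.LyG2.Emb

/-!
Transfer of the presentation of G2(5) to any other model: a nontrivial group generated by four
elements satisfying the relator words is isomorphic to the presented group, hence embeds in the
presented Lyons group with the four generators going to a, b, c, d.
-/

set_option autoImplicit false

namespace CfsgLib.LyG2

open Cfsg.Spor CfsgLib.CosetEnum

variable {M : Type*} [Group M] {v : Fin 4 → M}

/-- the map from the presented group given by four elements satisfying the relator words -/
def homOfGens (h : ∀ w ∈ Tab.relWords, gword (lets v) w = 1) : Q →* M :=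
  PresentedGroup.toGroup (f := v) (by
    rintro _ ⟨w, hw, rfl⟩
    rw [map_gword_lets]
    simp only [FreeGroup.lift_apply_of]
    exact h w hw)

theorem homOfGens_of (h : ∀ w ∈ Tab.relWords, gword (lets v) w = 1) (i : Fin 4) :
    homOfGens h (PresentedGroup.of i) = v i :=
  PresentedGroup.toGroup.of _

theorem homOfGens_bijective (h : ∀ w ∈ Tab.relWords, gword (lets v) w = 1)
    (hgen : Subgroup.closure (Set.range v) = ⊤) [Nontrivial M] :
    Function.Bijective (homOfGens h) := by
  have hs : Function.Surjective (homOfGens h) := by
    rw [← MonoidHom.range_eq_top, eq_top_iff, ← hgen, Subgroup.closure_le]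
    rintro _ ⟨i, rfl⟩
    exact ⟨PresentedGroup.of i, homOfGens_of h i⟩
  refine ⟨?_, hs⟩
  have := isSimple
  rw [← MonoidHom.ker_eq_bot_iff]
  refine (Subgroup.Normal.eq_bot_or_eq_top (inferInstance : (homOfGens h).ker.Normal)).resolve_right
    fun htop => ?_
  obtain ⟨m, hm⟩ := exists_ne (1 : M)
  obtain ⟨q, rfl⟩ := hs m
  exact hm (MonoidHom.mem_ker.1 (htop ▸ Subgroup.mem_top q))

/-- the isomorphism of the presented group with a nontrivial group generated by four elements
satisfying the relator words -/
noncomputable def equivOfGens (h : ∀ w ∈ Tab.relWords, gword (lets v) w = 1)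
    (hgen : Subgroup.closure (Set.range v) = ⊤) [Nontrivial M] : Q ≃* M :=
  MulEquiv.ofBijective (homOfGens h) (homOfGens_bijective h hgen)

/-- such a group embeds in the presented Lyons group -/
noncomputable def phi0 (h : ∀ w ∈ Tab.relWords, gword (lets v) w = 1)
    (hgen : Subgroup.closure (Set.range v) = ⊤) [Nontrivial M] : M →* Ly :=
  incl.comp (equivOfGens h hgen).symm.toMonoidHom

theorem phi0_gen (h : ∀ w ∈ Tab.relWords, gword (lets v) w = 1)
    (hgen : Subgroup.closure (Set.range v) = ⊤) [Nontrivial M] (i : Fin 4) :
    phi0 h hgen (v i) = PresentedGroup.of (four i) := by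
  show incl ((equivOfGens h hgen).symm (v i)) = _
  rw [show (equivOfGens h hgen).symm (v i) = PresentedGroup.of i from
    (MulEquiv.symm_apply_eq _).2 (homOfGens_of h i).symm]
  exact PresentedGroup.toGroup.of _

theorem phi0_injective (h : ∀ w ∈ Tab.relWords, gword (lets v) w = 1)
    (hgen : Subgroup.closure (Set.range v) = ⊤) [Nontrivial M] :
    Function.Injective (phi0 h hgen) :=
  incl_injective.comp (equivOfGens h hgen).symm.injective

theorem phi0_range (h : ∀ w ∈ Tab.relWords, gword (lets v) w = 1)
    (hgen : Subgroup.closure (Set.range v) = ⊤) [Nontrivial M] :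
    (phi0 h hgen).range = incl.range :=
  le_antisymm (fun _ ⟨m, hm⟩ => ⟨(equivOfGens h hgen).symm m, hm⟩)
    fun _ ⟨q, hq⟩ => ⟨equivOfGens h hgen q, by
      rw [← hq]; exact congrArg incl ((equivOfGens h hgen).symm_apply_apply q)⟩

/-- the subgroup on a, b, c, d has order 5859000000 -/
theorem card_range : Nat.card ↥incl.range = 5859000000 := by
  rw [← Nat.card_congr (MonoidHom.ofInjective incl_injective).toEquiv,
    Nat.card_congr equiv.toEquiv, card_group]

end CfsgLib.LyG2
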