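import Cfsg.Agent.LyG2.Chev
import Cfsg.Agent.LyRep96.Rep

/-!
The subgroup on the first four generators of the presented Lyons group is G2(5).
-/

set_option autoImplicit false
set_option maxRecDepth 100000

namespace CfsgLib.LyG2

open Cfsg.Spor CfsgLib.CosetEnum

/-- the relators of the presented Lyons group -/
abbrev lyRels : Set (FreeGroup Ly.Gen) := coxRelators Ly.edges ∪ {r | r ∈ Ly.extra}

/-- first substitution -/
def sub1Fun : Ly.Gen → FreeGroup Ly.Gen
  | .c1 => Ly.c
  | .c2 => Ly.a⁻¹ * Ly.c * Ly.a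
  | .c3 => Ly.b⁻¹ * Ly.c * Ly.b
  | .c4 => (Ly.b⁻¹)⁻¹ * Ly.c * (Ly.b⁻¹)
  | g => FreeGroup.of g

/-- second substitution -/
def sub2Fun : Ly.Gen → FreeGroup Ly.Gen
  | .c5 => Ly.c1⁻¹ * Ly.c2⁻¹ * Ly.c1 * Ly.c2
  | .e => ((Ly.b ^ 2)⁻¹) * (Ly.a⁻¹ * Ly.c1⁻¹ * Ly.a * Ly.c1) * (Ly.a⁻¹) * Ly.c1 * Ly.a * Ly.d *
      Ly.c1 * Ly.b * Ly.a * (Ly.b⁻¹) * Ly.d * Ly.c1 * Ly.d
  | g => FreeGroup.of g

theorem mk_extra {r : FreeGroup Ly.Gen} (h : r ∈ Ly.extra) : PresentedGroup.mk lyRels r = 1 :=
  PresentedGroup.one_of_mem (Or.inr h)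

theorem mk_eq_of_def {g : Ly.Gen} {X : FreeGroup Ly.Gen}
    (h : (Ly.extra.map FreeGroup.toWord).contains (FreeGroup.of g * X⁻¹).toWord = true) :
    PresentedGroup.mk lyRels (FreeGroup.of g) = PresentedGroup.mk lyRels X := by
  obtain ⟨r, hr, he⟩ := List.mem_map.1 (List.contains_iff_mem.1 h)
  have := mk_extra hr
  rw [FreeGroup.toWord_injective he, map_mul, map_inv] at this
  exact mul_inv_eq_one.1 this

theorem mk_sub1 (r : FreeGroup Ly.Gen) :
    PresentedGroup.mk lyRels (FreeGroup.lift sub1Fun r) = PresentedGroup.mk lyRels r := by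
  refine DFunLike.congr_fun (FreeGroup.ext_hom
    ((PresentedGroup.mk lyRels).comp (FreeGroup.lift sub1Fun)) (PresentedGroup.mk lyRels)
    fun g => ?_) r
  rw [MonoidHom.comp_apply, FreeGroup.lift_apply_of]
  cases g
  case c1 => exact (mk_eq_of_def (by decide +kernel)).symm
  case c2 => exact (mk_eq_of_def (by decide +kernel)).symm
  case c3 => exact (mk_eq_of_def (by decide +kernel)).symm
  case c4 => exact (mk_eq_of_def (by decide +kernel)).symm
  all_goals rfl

theorem mk_sub2 (r : FreeGroup Ly.Gen) :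
    PresentedGroup.mk lyRels (FreeGroup.lift sub2Fun r) = PresentedGroup.mk lyRels r := by
  refine DFunLike.congr_fun (FreeGroup.ext_hom
    ((PresentedGroup.mk lyRels).comp (FreeGroup.lift sub2Fun)) (PresentedGroup.mk lyRels)
    fun g => ?_) r
  rw [MonoidHom.comp_apply, FreeGroup.lift_apply_of]
  cases g
  case c5 => exact (mk_eq_of_def (by decide +kernel)).symm
  case e => exact (mk_eq_of_def (by decide +kernel)).symm
  all_goals rfl

/-- the four generators -/
def four : Fin 4 → Ly.Gen := ![.a, .b, .c, .d]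

theorem rels_in : (Tab.relWords.all fun w => (Ly.extra.map fun r =>
    (FreeGroup.lift sub1Fun (FreeGroup.lift sub2Fun r)).toWord).contains
      (gword (lets fun i => FreeGroup.of (four i)) w).toWord) = true := by
  decide +kernel

theorem relSet_le : ∀ r ∈ relSet,
    FreeGroup.lift (fun i => (PresentedGroup.of (four i) : Ly)) r = 1 := by
  rintro _ ⟨w, hw, rfl⟩
  rw [map_gword_lets]
  simp only [FreeGroup.lift_apply_of]
  obtain ⟨r, hr, he⟩ := List.mem_map.1
    (List.contains_iff_mem.1 (List.all_eq_true.1 rels_in w hw))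
  have h := (mk_sub1 (FreeGroup.lift sub2Fun r)).trans ((mk_sub2 r).trans (mk_extra hr))
  rw [FreeGroup.toWord_injective he, map_gword_lets] at h
  exact h

/-- the map into the Lyons group -/
def incl : Q →* Ly := PresentedGroup.toGroup relSet_le

theorem incl_range : incl.range =
    (Subgroup.closure ({Ly.a, Ly.b, Ly.c, Ly.d} : Set (FreeGroup Ly.Gen))).map
      (PresentedGroup.mk (coxRelators Ly.edges ∪ {r | r ∈ Ly.extra})) := by
  rw [MonoidHom.range_eq_map, ← PresentedGroup.closure_range_of, MonoidHom.map_closure,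
    MonoidHom.map_closure]
  congr 1
  rw [← Set.range_comp]
  simp only [Set.image_insert_eq, Set.image_singleton]
  ext x
  constructor
  · rintro ⟨i, rfl⟩
    show incl (PresentedGroup.of i) ∈ _
    rw [show incl (PresentedGroup.of i) = _ from PresentedGroup.toGroup.of _]
    fin_cases i
    · exact Or.inl rfl
    · exact Or.inr (Or.inl rfl)
    · exact Or.inr (Or.inr (Or.inl rfl))
    · exact Or.inr (Or.inr (Or.inr rfl))
  · rintro (rfl | rfl | rfl | rfl)
    · exact ⟨0, PresentedGroup.toGroup.of _⟩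
    · exact ⟨1, PresentedGroup.toGroup.of _⟩
    · exact ⟨2, PresentedGroup.toGroup.of _⟩
    · exact ⟨3, PresentedGroup.toGroup.of _⟩

theorem incl_injective : Function.Injective incl := by
  haveI := isSimple
  rw [← MonoidHom.ker_eq_bot_iff]
  refine (Subgroup.Normal.eq_bot_or_eq_top (inferInstance : incl.ker.Normal)).resolve_right ?_
  intro h
  apply LyRep96.rep_ne_one_of_not_idOK LyRep96.a_not_one
  have hx : incl (PresentedGroup.of 0) = 1 := by
    have : PresentedGroup.of 0 ∈ incl.ker := h ▸ Subgroup.mem_top _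
    exact this
  rw [incl, PresentedGroup.toGroup.of] at hx
  simp only [List.map_cons, List.map_nil, List.prod_cons, List.prod_nil, mul_one]
  exact (congrArg LyRep96.rep hx).trans (map_one _)

end CfsgLib.LyG2
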