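import Cfsg.Agent.LyG2.Data

/-! Generated data: the twelve extended letters as words in the eight letters. -/

set_option autoImplicit false

namespace CfsgLib.LyG2.Tab

/-- the extended letters -/
def extWords : List (List ℕ) := [[0],
  [1],
  [2],
  [3],
  [4],
  [5],
  [6],
  [7],
  [3, 3, 1, 5, 0, 4, 1, 4, 0, 6, 4, 2, 0, 3, 6, 4, 6],
  [7, 5, 7, 2, 1, 3, 5, 7, 1, 5, 0, 5, 1, 4, 0, 2, 2],
  [5, 1, 5, 0, 4, 1, 4, 0],
  [1, 5, 0, 5, 1, 4, 0, 4]]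

end CfsgLib.LyG2.Tab
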