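import Cfsg.Agent.LyG2.Data
import Cfsg.Agent.CosetEnum.Present
import Cfsg.Agent.LyG2.AB.Upper
import Cfsg.Agent.LyG2.ABC.Upper
import Cfsg.Agent.LyG2.TOP.Upper
import Cfsg.Agent.LyG2.Extended
import Cfsg.Agent.J4M24.Rewrite

/-!
The group presented by the relators on four generators has order at most that of G2(5), by a chain
of three certified coset enumerations.
-/

set_option autoImplicit false

namespace CfsgLib.LyG2

open CfsgLib.CosetEnum

/-- the values of the eight letters over four values -/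
def lets {G : Type*} [Group G] (v : Fin 4 → G) (c : ℕ) : G :=
  if h : c / 2 < 4 then (if c % 2 = 0 then v ⟨c / 2, h⟩ else (v ⟨c / 2, h⟩)⁻¹) else 1

theorem lets_iv {G : Type*} [Group G] (v : Fin 4 → G) (c : ℕ) :
    lets v (c ^^^ 1) = (lets v c)⁻¹ := by
  rcases Nat.even_or_odd' c with ⟨k, rfl | rfl⟩
  · have h : 2 * k ^^^ 1 = 2 * k + 1 := by rw [Nat.xor_one_of_even (by simp)]
    have h1 : (2 * k + 1) % 2 = 1 := by omega
    have h2 : (2 * k + 1) / 2 = k := by omega
    by_cases hk : k < 4 <;> simp [lets, h, h1, h2, hk]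
  · have h : (2 * k + 1) ^^^ 1 = 2 * k := by
      rw [Nat.xor_one_of_odd (by simp)]; omega
    have h1 : (2 * k + 1) % 2 = 1 := by omega
    have h2 : (2 * k + 1) / 2 = k := by omega
    by_cases hk : k < 4 <;> simp [lets, h, h1, h2, hk]

theorem map_lets {G H : Type*} [Group G] [Group H] (f : G →* H) (v : Fin 4 → G) (c : ℕ) :
    f (lets v c) = lets (fun i => f (v i)) c := by
  unfold lets
  split_ifs <;> simp

theorem map_gword_lets {G H : Type*} [Group G] [Group H] (f : G →* H) (v : Fin 4 → G)
    (w : List ℕ) : f (gword (lets v) w) = gword (lets fun i => f (v i)) w := by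
  rw [gword_map]
  exact gword_congr _ _ fun c _ => map_lets f v c

/-- the relators -/
def relSet : Set (FreeGroup (Fin 4)) :=
  {r | ∃ w ∈ Tab.relWords, gword (lets FreeGroup.of) w = r}

/-- the presented group -/
abbrev Q : Type := PresentedGroup relSet

/-- the letters of the presented group -/
def gl : ℕ → Q := lets fun i => PresentedGroup.of i

theorem gl_iv (x : ℕ) : gl (x ^^^ 1) = (gl x)⁻¹ := lets_iv _ x

theorem gword_rel : ∀ w ∈ Tab.relWords, gword gl w = 1 := by
  intro w hw
  have h : PresentedGroup.mk relSet (gword (lets FreeGroup.of) w) = 1 :=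
    PresentedGroup.one_of_mem ⟨w, hw, rfl⟩
  rwa [map_gword_lets] at h

/-- the subgroup of the first letters -/
def sub (L : ℕ) : Subgroup Q := Subgroup.closure {a | ∃ x < L, gl x = a}

theorem gl_mem {L x : ℕ} (hx : x < L) : gl x ∈ sub L := Subgroup.subset_closure ⟨x, hx, rfl⟩

theorem sub_mono {L L' : ℕ} (h : L ≤ L') : sub L ≤ sub L' :=
  Subgroup.closure_mono fun _ ⟨x, hx, e⟩ => ⟨x, lt_of_lt_of_le hx h, e⟩

theorem sub_top : sub 8 = ⊤ := by
  rw [eq_top_iff, ← PresentedGroup.closure_range_of, Subgroup.closure_le]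
  rintro _ ⟨i, rfl⟩
  have h : gl (2 * i.val) = PresentedGroup.of i := by
    have h2 : 2 * i.val / 2 < 4 := by omega
    rw [gl, lets, dif_pos h2, if_pos (by omega)]
    congr 1
    exact Fin.ext (show 2 * i.val / 2 = i.val by omega)
  rw [← h]
  exact gl_mem (by omega)

/-- the words of a certificate are relators, then words in the subgroup -/
theorem cert_index {C : CertData} {N : ℕ}
    (hN : FactsChecked C.ep C.iv C.words C.nr N) (hn : 0 < C.n) (h0 : C.node 0 = 0)
    (hrow : ∀ i < C.n, checkRow C.ep C.iv N C.L C.node C.T C.tf C.n i = true)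
    (H : Subgroup Q) (hiv : ∀ x, C.iv x = x ^^^ 1)
    (hw : wordsFrom (fun c => c ^^^ 1) Tab.relWords (C.words.take C.nr) = true)
    (hs : ∀ w ∈ C.words.drop C.nr, gword gl w ∈ H) :
    H.relIndex (sub C.L) ≤ C.n ∧ H.relIndex (sub C.L) ≠ 0 := by
  have hrel : ∀ (k : ℕ) (w : List ℕ), C.words[k]? = some w → k < C.nr → gword gl w = 1 :=
    fun k w hk hlt => gword_of_wordsFrom gl (fun c => c ^^^ 1) gl_iv hw gword_rel w
      (List.mem_of_getElem? (i := k) (by rw [List.getElem?_take_of_lt hlt]; exact hk))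
  have hsub : ∀ (k : ℕ) (w : List ℕ), C.words[k]? = some w → gword gl w ∈ H := by
    intro k w hk
    by_cases hlt : k < C.nr
    · rw [hrel k w hk hlt]; exact one_mem _
    · exact hs w (List.mem_of_getElem? (i := k - C.nr) (by
        rw [List.getElem?_drop, Nat.add_sub_cancel' (not_lt.1 hlt)]; exact hk))
  exact relIndex_le hN hn h0 hrow H gl (fun x => by rw [hiv, gl_iv]) hrel hsub

theorem ab_index : (Subgroup.zpowers (gl 2)).relIndex (sub 4) ≤ 96 ∧
    (Subgroup.zpowers (gl 2)).relIndex (sub 4) ≠ 0 := by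
  have h := cert_index AB.facts AB.n_pos AB.node_zero AB.rows (Subgroup.zpowers (gl 2))
    (fun _ => rfl) (by decide +kernel) fun w hw => by
      have hd : (AB.cert.words.drop AB.cert.nr).all (fun w => w == [2]) = true := by decide +kernel
      rw [eq_of_beq (List.all_eq_true.1 hd w hw), gword_cons, gword_nil, mul_one]
      exact Subgroup.mem_zpowers _
  exact h

theorem abc_index : (sub 4).relIndex (sub 6) ≤ 3125 ∧ (sub 4).relIndex (sub 6) ≠ 0 := by
  have h := cert_index ABC.facts ABC.n_pos ABC.node_zero ABC.rows (sub 4)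
    (fun _ => rfl) (by decide +kernel) fun w hw => by
      have hd : (ABC.cert.words.drop ABC.cert.nr).all (fun w => w.all fun c => c.blt 4) = true := by
        decide +kernel
      refine gword_mem _ gl fun c hc => gl_mem ?_
      have := List.all_eq_true.1 (List.all_eq_true.1 hd w hw) c hc
      simpa [Nat.blt] using this
  exact h

/-- the word of an extended letter -/
def xword (c : ℕ) : List ℕ := Tab.extWords.getD c []

/-- values of the twelve extended letters -/
def xl (c : ℕ) : Q := gword gl (xword c)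

theorem ext_ok : (List.range 12).all (fun c =>
    xword (c ^^^ 1) == (xword c).reverse.map (fun y => y ^^^ 1)) = true := by decide +kernel

theorem xl_iv (c : ℕ) : xl (c ^^^ 1) = (xl c)⁻¹ := by
  by_cases hc : c < 12
  · have h := eq_of_beq (List.all_eq_true.1 ext_ok c (List.mem_range.2 hc))
    rw [xl, h, gword_inverse gl (fun y => y ^^^ 1) gl_iv]
    rfl
  · have hlen : Tab.extWords.length = 12 := by decide +kernel
    have hc' : ¬ c ^^^ 1 < 12 := by
      rcases Nat.even_or_odd' c with ⟨k, rfl | rfl⟩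
      · rw [Nat.xor_one_of_even (by simp)]; omega
      · rw [Nat.xor_one_of_odd (by simp)]; omega
    have e : ∀ d, ¬ d < 12 → xl d = 1 := fun d hd => by
      rw [xl, xword, List.getD_eq_default _ _ (by omega), gword_nil]
    rw [e _ hc, e _ hc', inv_one]

theorem gword_xl : ∀ w : List ℕ, gword gl (w.flatMap xword) = gword xl w
  | [] => rfl
  | c :: w => by
    rw [List.flatMap_cons, J4M24.gword_append, gword_xl w, gword_cons xl]
    rfl

theorem xl_top : (Subgroup.closure {a | ∃ x < TOP.cert.L, xl x = a}) = sub 8 := by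
  refine le_antisymm ((Subgroup.closure_le _).2 ?_) ((Subgroup.closure_le _).2 ?_)
  · rintro _ ⟨x, -, rfl⟩
    rw [SetLike.mem_coe, sub_top]
    exact Subgroup.mem_top _
  · rintro _ ⟨x, hx, rfl⟩
    have hd : (List.range 8).all (fun c => xword c == [c]) = true := by decide +kernel
    refine Subgroup.subset_closure ⟨x, lt_of_lt_of_le hx (by decide +kernel), ?_⟩
    rw [xl, eq_of_beq (List.all_eq_true.1 hd x (List.mem_range.2 hx)), gword_cons, gword_nil,
      mul_one]

theorem top_index : (sub 6).relIndex (sub 8) ≤ 3906 ∧ (sub 6).relIndex (sub 8) ≠ 0 := by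
  have hw : wordsFrom (fun c => c ^^^ 1) ([] :: Tab.relWords)
      ((TOP.cert.words.take TOP.cert.nr).map
        fun w => J4M24.red (fun c => c ^^^ 1) (w.flatMap xword)) = true := by decide +kernel
  have hrel : ∀ (k : ℕ) (w : List ℕ), TOP.cert.words[k]? = some w → k < TOP.cert.nr →
      gword xl w = 1 := fun k w hk hlt => by
    rw [← gword_xl, ← J4M24.gword_red gl (fun c => c ^^^ 1) gl_iv]
    refine gword_of_wordsFrom gl (fun c => c ^^^ 1) gl_iv hw ?_ _ (List.mem_map.2
      ⟨w, List.mem_of_getElem? (i := k) (by rw [List.getElem?_take_of_lt hlt]; exact hk), rfl⟩)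
    intro v hv
    rcases List.mem_cons.1 hv with rfl | hv
    · exact gword_nil gl
    · exact gword_rel v hv
  have hsub : ∀ (k : ℕ) (w : List ℕ), TOP.cert.words[k]? = some w → gword xl w ∈ sub 6 := by
    intro k w hk
    by_cases hlt : k < TOP.cert.nr
    · rw [hrel k w hk hlt]; exact one_mem _
    · have hd : (TOP.cert.words.drop TOP.cert.nr).all
          (fun w => (w.flatMap xword).all fun c => c.blt 6) = true := by decide +kernel
      have hm : w ∈ TOP.cert.words.drop TOP.cert.nr := List.mem_of_getElem? (i := k - TOP.cert.nr)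
        (by rw [List.getElem?_drop, Nat.add_sub_cancel' (not_lt.1 hlt)]; exact hk)
      rw [← gword_xl]
      refine gword_mem _ gl fun c hc => gl_mem ?_
      have := List.all_eq_true.1 (List.all_eq_true.1 hd w hm) c hc
      simpa [Nat.blt] using this
  have h := relIndex_le TOP.facts TOP.n_pos TOP.node_zero TOP.rows (sub 6) xl xl_iv hrel hsub
  rw [xl_top] at h
  exact h

theorem card_le : Nat.card Q ≤ 5859000000 ∧ Nat.card Q ≠ 0 := by
  have hb : gl 2 ^ 5 = 1 := by
    have := gword_rel [2, 2, 2, 2, 2] (by decide)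
    simpa [gword, pow_succ, mul_assoc] using this
  have hL : Nat.card (Subgroup.zpowers (gl 2)) ≤ 5 ∧
      Nat.card (Subgroup.zpowers (gl 2)) ≠ 0 := by
    rw [Nat.card_zpowers]
    exact ⟨orderOf_le_of_pow_eq_one (by norm_num) hb,
      (orderOf_pos_iff.2 (isOfFinOrder_iff_pow_eq_one.2 ⟨5, by norm_num, hb⟩)).ne'⟩
  obtain ⟨h1, h1'⟩ := ab_index
  obtain ⟨h2, h2'⟩ := abc_index
  obtain ⟨h3, h3'⟩ := top_index
  have e1 := Subgroup.relIndex_mul_relIndex (⊥ : Subgroup Q) (Subgroup.zpowers (gl 2)) (sub 4)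
    bot_le ((Subgroup.zpowers_le).2 (gl_mem (by norm_num)))
  have e2 := Subgroup.relIndex_mul_relIndex (⊥ : Subgroup Q) (sub 4) (sub 6) bot_le
    (sub_mono (by norm_num))
  have e3 := Subgroup.relIndex_mul_relIndex (⊥ : Subgroup Q) (sub 6) (sub 8) bot_le
    (sub_mono (by norm_num))
  rw [Subgroup.relIndex_bot_left, Subgroup.relIndex_bot_left] at e1 e2 e3
  have hQ : Nat.card (sub 8) = Nat.card Q := by rw [sub_top, Subgroup.card_top]
  rw [← hQ, ← e3, ← e2, ← e1]
  refine ⟨?_, mul_ne_zero (mul_ne_zero (mul_ne_zero hL.2 h1') h2') h3'⟩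
  calc _ ≤ 5 * 96 * 3125 * 3906 := Nat.mul_le_mul (Nat.mul_le_mul (Nat.mul_le_mul hL.1 h1) h2) h3
    _ = 5859000000 := by norm_num

end CfsgLib.LyG2
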