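import Cfsg.Agent.Packed5.Basic
import Cfsg.Agent.LyG2.Order
import Cfsg.Agent.S1055
import Cfsg.Agent.S1059
import Cfsg.Agent.Eq.Def_ChevG2

/-!
The presented group maps onto the Chevalley group of type G2 over five elements, hence is
isomorphic to it.
-/

set_option autoImplicit false
set_option maxRecDepth 100000

namespace CfsgLib.LyG2

open Cfsg.Lie CfsgLib.Packed5 CfsgLib.CosetEnum

instance : Fact (Nat.Prime 5) := ⟨by norm_num⟩

/-- matrices on the coordinates of the adjoint module as matrices of size 14 -/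
def toF : Matrix chevG2.Idx chevG2.Idx (ZMod 5) →* Matrix (Fin 14) (Fin 14) (ZMod 5) :=
  (Matrix.reindexAlgEquiv (ZMod 5) (ZMod 5)
    (finSumFinEquiv : Fin chevG2.rank ⊕ Fin chevG2.nroots ≃ Fin 14)).toMonoidHom

theorem toF_injective : Function.Injective toF :=
  (Matrix.reindexAlgEquiv (ZMod 5) (ZMod 5)
    (finSumFinEquiv : Fin chevG2.rank ⊕ Fin chevG2.nroots ≃ Fin 14)).injective

theorem one_ok : okM 14 (idL 14) = true ∧ toM 14 (idL 14) = 1 := by
  refine ⟨by decide +kernel, ?_⟩
  decide +kernel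

/-- root matrix of a letter -/
def rm (c : ℕ) : List ℕ := Tab.rootMats.getD c []

/-- generator matrix of a letter -/
def gm (c : ℕ) : List ℕ := Tab.genMats.getD c []

theorem root_ok : (List.range 24).all (fun c => okM 14 (rm c)) = true := by decide +kernel

theorem root_mat : ∀ r : Fin chevG2.nroots,
    toF (chevG2.xMat (ZMod 5) r 1) = toM 14 (rm (2 * r.val)) ∧
      toF (chevG2.xMat (ZMod 5) r 4) = toM 14 (rm (2 * r.val + 1)) := by
  decide +kernel

theorem root_pow : ∀ r : Fin chevG2.nroots, ∀ t : Fin 5,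
    toF (chevG2.xMat (ZMod 5) r (t.val : ZMod 5)) =
      toM 14 (wordL 14 rm (List.replicate t.val (2 * r.val))) := by
  decide +kernel

theorem root_inv : (List.range 24).all (fun c => wordL 14 rm [c, c ^^^ 1] == idL 14) = true := by
  decide +kernel

theorem root_inv' (r : Fin chevG2.nroots) :
    chevG2.xMat (ZMod 5) r 1 * chevG2.xMat (ZMod 5) r 4 = 1 ∧
      chevG2.xMat (ZMod 5) r 4 * chevG2.xMat (ZMod 5) r 1 = 1 := by
  have hr : r.val < 12 := r.isLt
  have hok : ∀ c < 24, okM 14 (rm c) = true := fun c hc =>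
    List.all_eq_true.1 root_ok c (List.mem_range.2 hc)
  have h1 := mulL_spec (n := 14) (by norm_num) (hok (2 * r.val) (by omega))
    (hok (2 * r.val + 1) (by omega))
  have key : chevG2.xMat (ZMod 5) r 1 * chevG2.xMat (ZMod 5) r 4 = 1 := by
    apply toF_injective
    have hw : ∀ c ∈ [2 * r.val, 2 * r.val + 1], okM 14 (rm c) = true ∧
        (MonoidHom.id _) (toM 14 (rm c)) = toM 14 (rm c) := fun c hc =>
      ⟨hok c (by simp only [List.mem_cons, List.not_mem_nil, or_false] at hc; omega), rfl⟩
    have h2 := (wordL_spec (n := 14) (by norm_num) (MonoidHom.id _) (fun c => toM 14 (rm c)) rm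
      one_ok _ hw).2
    have h3 := List.all_eq_true.1 root_inv (2 * r.val) (List.mem_range.2 (by omega))
    rw [Nat.xor_one_of_even (by simp), beq_iff_eq] at h3
    rw [h3, one_ok.2] at h2
    rw [map_mul, map_one, (root_mat r).1, (root_mat r).2, h2]
    simp
  exact ⟨key, mul_eq_one_comm.1 key⟩

/-- a root element with parameter one -/
def xu (r : Fin chevG2.nroots) : GL chevG2.Idx (ZMod 5) :=
  ⟨chevG2.xMat (ZMod 5) r 1, chevG2.xMat (ZMod 5) r 4, (root_inv' r).1, (root_inv' r).2⟩

theorem xu_mem (r : Fin chevG2.nroots) : xu r ∈ chevG2.group (ZMod 5) :=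
  Subgroup.subset_closure ⟨r, 1, rfl⟩

/-- the matrix of a unit, in size 14 -/
def toFu : GL chevG2.Idx (ZMod 5) →* Matrix (Fin 14) (Fin 14) (ZMod 5) :=
  toF.comp (Units.coeHom _)

theorem toFu_injective : Function.Injective toFu :=
  fun _ _ h => Units.ext (toF_injective h)

/-- values of the root letters -/
def rl (c : ℕ) : GL chevG2.Idx (ZMod 5) :=
  if h : c / 2 < chevG2.nroots then (if c % 2 = 0 then xu ⟨c / 2, h⟩ else (xu ⟨c / 2, h⟩)⁻¹) else 1

theorem rl_mem (c : ℕ) : rl c ∈ chevG2.group (ZMod 5) := by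
  unfold rl
  split_ifs
  · exact xu_mem _
  · exact inv_mem (xu_mem _)
  · exact one_mem _

theorem rl_ok {c : ℕ} (hc : c < 24) : okM 14 (rm c) = true ∧ toFu (rl c) = toM 14 (rm c) := by
  refine ⟨List.all_eq_true.1 root_ok c (List.mem_range.2 hc), ?_⟩
  have h : c / 2 < chevG2.nroots := show c / 2 < 12 by omega
  rw [rl, dif_pos h]
  split_ifs with hp
  · exact ((root_mat ⟨c / 2, h⟩).1).trans
      (congrArg (fun k => toM 14 (rm k)) (show 2 * (c / 2) = c by omega))
  · exact ((root_mat ⟨c / 2, h⟩).2).trans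
      (congrArg (fun k => toM 14 (rm k)) (show 2 * (c / 2) + 1 = c by omega))

/-- the images of the four generators -/
def gens (i : Fin 4) : GL chevG2.Idx (ZMod 5) :=
  gword rl (Tab.genWords.getD (2 * i.val) [])

theorem gens_ok : ((List.range 8).all (fun c =>
    (Tab.genWords.getD c []).all (fun x => x.blt 24) &&
      wordL 14 rm (Tab.genWords.getD c []) == gm c && okM 14 (gm c) &&
      wordL 14 gm [c, c ^^^ 1] == idL 14)) = true := by decide +kernel

theorem gens_mem (i : Fin 4) : gens i ∈ chevG2.group (ZMod 5) :=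
  gword_mem _ rl fun c _ => rl_mem c

theorem gen_letter_ok {c : ℕ} (hc : c < 8) :
    okM 14 (gm c) = true ∧ toFu (lets gens c) = toM 14 (gm c) := by
  have hall : ∀ d < 8, (∀ x ∈ Tab.genWords.getD d [], x < 24) ∧
      wordL 14 rm (Tab.genWords.getD d []) = gm d ∧ okM 14 (gm d) = true ∧
      wordL 14 gm [d, d ^^^ 1] = idL 14 := fun d hd => by
    have h := List.all_eq_true.1 gens_ok d (List.mem_range.2 hd)
    simp only [Bool.and_eq_true, List.all_eq_true, Nat.blt, Nat.ble_eq, beq_iff_eq] at h
    exact ⟨h.1.1.1, h.1.1.2, h.1.2, h.2⟩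
  refine ⟨(hall c hc).2.2.1, ?_⟩
  have key : ∀ d < 8, toFu (gword rl (Tab.genWords.getD d [])) = toM 14 (gm d) := fun d hd => by
    have h := (wordL_spec (n := 14) (by norm_num) toFu rl rm one_ok (Tab.genWords.getD d [])
      fun x hx => rl_ok ((hall d hd).1 x hx)).2
    rw [(hall d hd).2.1] at h
    exact h.symm
  have h4 : c / 2 < 4 := by omega
  rw [lets, dif_pos h4]
  split_ifs with hp
  · exact (key (2 * (c / 2)) (by omega)).trans
      (congrArg (fun k => toM 14 (gm k)) (show 2 * (c / 2) = c by omega))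
  · have hm : toFu (gens ⟨c / 2, h4⟩) * toM 14 (gm c) = 1 := by
      rw [show toFu (gens ⟨c / 2, h4⟩) = toM 14 (gm (2 * (c / 2))) from key _ (by omega)]
      have h := (wordL_spec (n := 14) (by norm_num) (MonoidHom.id _) (fun d => toM 14 (gm d)) gm
        one_ok [2 * (c / 2), c] (fun d hd => ⟨(hall d (by
          simp only [List.mem_cons, List.not_mem_nil, or_false] at hd; omega)).2.2.1, rfl⟩)).2
      have he : [2 * (c / 2), c] = [2 * (c / 2), (2 * (c / 2)) ^^^ 1] := by
        rw [Nat.xor_one_of_even (by simp), show 2 * (c / 2) + 1 = c by omega]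
      rw [he, (hall (2 * (c / 2)) (by omega)).2.2.2, one_ok.2, ← he] at h
      simpa using h.symm
    calc toFu (gens ⟨c / 2, h4⟩)⁻¹ = toFu (gens ⟨c / 2, h4⟩)⁻¹ *
          (toFu (gens ⟨c / 2, h4⟩) * toM 14 (gm c)) := by rw [hm, mul_one]
      _ = toM 14 (gm c) := by rw [← mul_assoc, ← map_mul, inv_mul_cancel, map_one, one_mul]

theorem rels_ok : (Tab.relWords.all fun w =>
    w.all (fun x => x.blt 8) && wordL 14 gm w == idL 14) = true := by decide +kernel

theorem toFu_gword {w : List ℕ} (hw : ∀ x ∈ w, x < 8) :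
    toFu (gword (lets gens) w) = toM 14 (wordL 14 gm w) :=
  ((wordL_spec (n := 14) (by norm_num) toFu (lets gens) gm one_ok w
    fun x hx => gen_letter_ok (hw x hx)).2).symm

theorem relSet_ok : ∀ r ∈ relSet,
    FreeGroup.lift (fun i => (⟨gens i, gens_mem i⟩ : ↥(chevG2.group (ZMod 5)))) r = 1 := by
  rintro _ ⟨w, hw, rfl⟩
  have h := List.all_eq_true.1 rels_ok w hw
  simp only [Bool.and_eq_true, List.all_eq_true, Nat.blt, Nat.ble_eq, beq_iff_eq] at h
  apply Subtype.ext
  show (chevG2.group (ZMod 5)).subtype (FreeGroup.lift _ _) = 1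
  rw [map_gword_lets, map_gword_lets]
  simp only [FreeGroup.lift_apply_of]
  apply toFu_injective
  exact ((toFu_gword h.1).trans (by rw [h.2, one_ok.2])).trans (map_one _).symm

/-- the map onto the Chevalley group -/
def phi : Q →* ↥(chevG2.group (ZMod 5)) := PresentedGroup.toGroup relSet_ok

theorem phi_gword (w : List ℕ) :
    (phi (gword gl w) : GL chevG2.Idx (ZMod 5)) = gword (lets gens) w := by
  show (chevG2.group (ZMod 5)).subtype (phi (gword (lets _) w)) = _
  rw [map_gword_lets, map_gword_lets, phi]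
  simp only [PresentedGroup.toGroup.of]
  rfl

theorem roots_gen : ((List.range 12).all fun r => (Tab.rootWords.getD r []).all (fun x => x.blt 8) &&
    wordL 14 gm (Tab.rootWords.getD r []) == rm (2 * r)) = true := by decide +kernel

theorem phi_surjective : Function.Surjective phi := by
  have hle : chevG2.group (ZMod 5) ≤ ((chevG2.group (ZMod 5)).subtype.comp phi).range := by
    refine (Subgroup.closure_le _).2 ?_
    rintro g ⟨r, t, hg⟩
    have hr : r.val < 12 := r.isLt
    have h := List.all_eq_true.1 roots_gen r.val (List.mem_range.2 hr)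
    simp only [Bool.and_eq_true, List.all_eq_true, Nat.blt, Nat.ble_eq, beq_iff_eq] at h
    have hx : xu r ∈ ((chevG2.group (ZMod 5)).subtype.comp phi).range := by
      refine ⟨gword gl (Tab.rootWords.getD r.val []), ?_⟩
      refine (phi_gword _).trans (toFu_injective ?_)
      rw [toFu_gword h.1, h.2]
      exact ((root_mat r).1).symm
    obtain ⟨k, rfl⟩ : ∃ k : Fin 5, ((k.val : ℕ) : ZMod 5) = t :=
      ⟨⟨t.val, ZMod.val_lt t⟩, ZMod.natCast_zmod_val t⟩
    have e : g = xu r ^ k.val := by
      apply toFu_injective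
      show toF (g : Matrix chevG2.Idx chevG2.Idx (ZMod 5)) = _
      rw [hg, root_pow r k]
      have h2 := (wordL_spec (n := 14) (by norm_num) toFu (fun _ => xu r) rm one_ok
        (List.replicate k.val (2 * r.val)) (fun c hc => by
          rw [(List.mem_replicate.1 hc).2]
          exact ⟨List.all_eq_true.1 root_ok _ (List.mem_range.2 (by omega)), (root_mat r).1⟩)).2
      rw [h2, List.map_replicate, List.prod_replicate]
    rw [e]
    exact pow_mem hx _
  intro g
  obtain ⟨a, ha⟩ := hle g.2
  exact ⟨a, Subtype.ext ha⟩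

theorem card_group : Nat.card ↥(chevG2.group (ZMod 5)) = 5859000000 := by
  rw [Cfsg.Agent.S1059.result (F := ZMod 5) (ZMod.card 5)]; norm_num

theorem phi_injective : Function.Injective phi := by
  obtain ⟨hle, hne⟩ := card_le
  haveI : Finite Q := Nat.finite_of_card_ne_zero hne
  exact ((Function.Surjective.bijective_of_nat_card_le phi_surjective
    (by rw [card_group]; exact hle)).1)

/-- The presented group is the Chevalley group. -/
noncomputable def equiv : Q ≃* ↥(chevG2.group (ZMod 5)) :=
  MulEquiv.ofBijective phi ⟨phi_injective, phi_surjective⟩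

theorem isSimple : IsSimpleGroup Q := by
  haveI := (Cfsg.Agent.S1055.result (F := ZMod 5) ⟨2, by decide, by decide⟩).1
  haveI : Nontrivial Q := equiv.toEquiv.nontrivial
  exact IsSimpleGroup.isSimpleGroup_of_surjective equiv.symm.toMonoidHom equiv.symm.surjective

end CfsgLib.LyG2
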